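import Groth.Agent.StalkBcLib.Basic
import Groth.Agent.CommAlgDim.RegularRing
import Groth.Agent.GeomRegInsepLib.Ring
import Groth.Agent.NormalInsepLib.Basic
import Groth.Agent.HensFormalLib.Basic
import Groth.Agent.HensFormalLib.NormalBCUnibranch

/-!
# Normality and regularity of `K ⊗ O_{X,x}` through the points of `X_K` over `x`
-/

set_option autoImplicit false
set_option synthInstance.maxHeartbeats 80000

universe u

open CategoryTheory CategoryTheory.Limits AlgebraicGeometry TensorProduct
open GeomRedFieldLib

namespace StalkBcLib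

/-- Normality can be checked at maximal ideals. -/
theorem isNormalRing_of_isMaximal {R : Type u} [CommRing R]
    (h : ∀ (M : Ideal R) [M.IsMaximal],
      IsDomain (Localization.AtPrime M) ∧ IsIntegrallyClosed (Localization.AtPrime M)) : EGA4.IsNormalRing R := by
  intro p hp
  obtain ⟨M, hM, hpM⟩ := Ideal.exists_le_maximal p hp.ne_top
  obtain ⟨h1, h2⟩ := h M
  let P := p.map (algebraMap R (Localization.AtPrime M))
  have hdisj : Disjoint (M.primeCompl : Set R) p := Set.disjoint_left.2 fun x hx hxp => hx (hpM hxp)
  haveI : P.IsPrime := IsLocalization.isPrime_of_isPrime_disjoint M.primeCompl _ p hp hdisj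
  have hcomap : P.comap (algebraMap R (Localization.AtPrime M)) = p :=
    IsLocalization.comap_map_of_isPrime_disjoint M.primeCompl _ hp hdisj
  haveI : IsLocalization.AtPrime (Localization.AtPrime P) p := by
    have h1 : IsLocalization.AtPrime (Localization.AtPrime P)
        (P.comap (algebraMap R (Localization.AtPrime M))) :=
      IsLocalization.isLocalization_isLocalization_atPrime_isLocalization M.primeCompl _ P
    simpa only [hcomap] using h1
  let e := (IsLocalization.algEquiv p.primeCompl (Localization.AtPrime P) (Localization.AtPrime p)).toRingEquiv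
  obtain ⟨g1, g2⟩ := HensFormalLib.isNormalRing_of_isIntegrallyClosed (Localization.AtPrime M) P
  exact ⟨e.symm.toMulEquiv.isDomain _, IsIntegrallyClosed.of_equiv e⟩

variable {k : Type u} [Field k] {X : Scheme.{u}} (f : X ⟶ Spec (CommRingCat.of k)) {x : X}
  [Algebra k (X.presheaf.stalk x)] (hR : X.fromSpecStalk x ≫ f = str k (X.presheaf.stalk x))
  (K : Type u) [Field K] [Algebra k K]

include hR

theorem isNormalRing_of_points [Algebra.IsAlgebraic k K]
    (h : ∀ w : ↥(pullback f (str k K)), pullback.fst f (str k K) w = x →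
      IsDomain ((pullback f (str k K)).presheaf.stalk w) ∧
        IsIntegrallyClosed ((pullback f (str k K)).presheaf.stalk w)) :
    EGA4.IsNormalRing (K ⊗[k] X.presheaf.stalk x) :=
  isNormalRing_of_isMaximal fun M _ => by
    obtain ⟨w, hw, ⟨e⟩⟩ := exists_point_of_maximal f K hR M
    obtain ⟨h1, h2⟩ := h w hw
    exact ⟨e.toMulEquiv.isDomain_iff.mp h1, IsIntegrallyClosed.of_equiv e⟩

theorem points_of_isNormalRing (h : EGA4.IsNormalRing (K ⊗[k] X.presheaf.stalk x))
    (w : ↥(pullback f (str k K))) (hw : pullback.fst f (str k K) w = x) :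
    IsDomain ((pullback f (str k K)).presheaf.stalk w) ∧
      IsIntegrallyClosed ((pullback f (str k K)).presheaf.stalk w) := by
  obtain ⟨p, hp, ⟨e⟩⟩ := exists_prime_of_point f K hR w hw
  haveI := hp
  obtain ⟨h1, h2⟩ := h p
  exact ⟨e.toMulEquiv.isDomain_iff.mpr h1, IsIntegrallyClosed.of_equiv e.symm⟩

theorem isRegularRing_of_points [FiniteDimensional k K] [IsNoetherianRing (X.presheaf.stalk x)]
    (h : ∀ w : ↥(pullback f (str k K)), pullback.fst f (str k K) w = x →
      IsRegularLocalRing ((pullback f (str k K)).presheaf.stalk w)) :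
    IsRegularRing (K ⊗[k] X.presheaf.stalk x) := by
  haveI : IsNoetherianRing (X.presheaf.stalk x ⊗[k] K) := IsNoetherianRing.of_finite (X.presheaf.stalk x) _
  haveI : IsNoetherianRing (K ⊗[k] X.presheaf.stalk x) :=
    isNoetherianRing_of_ringEquiv _ (Algebra.TensorProduct.comm k (X.presheaf.stalk x) K).toRingEquiv
  refine CommAlgDim.isRegularRing_of_isMaximal fun M _ => ?_
  obtain ⟨w, hw, ⟨e⟩⟩ := exists_point_of_maximal f K hR M
  haveI := h w hw
  exact IsRegularLocalRing.of_ringEquiv e

theorem points_of_isRegularRing [IsRegularRing (K ⊗[k] X.presheaf.stalk x)]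
    (w : ↥(pullback f (str k K))) (hw : pullback.fst f (str k K) w = x) :
    IsRegularLocalRing ((pullback f (str k K)).presheaf.stalk w) := by
  obtain ⟨p, hp, ⟨e⟩⟩ := exists_prime_of_point f K hR w hw
  haveI := hp
  haveI := IsRegularRing.isRegularLocalRing_localization p
  exact IsRegularLocalRing.of_ringEquiv e.symm

end StalkBcLib
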