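import Groth.Agent.GeomRedFieldLib.AtPoint
import Groth.Agent.GeomRedFieldLib.Locus

/-!
# Local rings of a base change over a given point, in terms of `K ⊗ O_{X,x}`
-/

set_option autoImplicit false
set_option synthInstance.maxHeartbeats 80000

universe u

open CategoryTheory CategoryTheory.Limits AlgebraicGeometry TensorProduct
open GeomRedFieldLib

namespace StalkBcLib

noncomputable section

/-- A ring isomorphism carries localisations at primes to localisations at primes. -/
theorem nonempty_atPrime_equiv {A B : Type u} [CommRing A] [CommRing B] (e : A ≃+* B) (p : Ideal B) [p.IsPrime] :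
    Nonempty (Localization.AtPrime (p.comap e.toRingHom) ≃+* Localization.AtPrime p) :=
  ⟨IsLocalization.ringEquivOfRingEquiv (M := (p.comap e.toRingHom).primeCompl) (T := p.primeCompl) _ _ e
    (by
      ext y
      simp only [Submonoid.mem_map, Ideal.mem_primeCompl_iff, Ideal.mem_comap]
      exact ⟨fun ⟨a, ha, hy⟩ => hy ▸ ha, fun hy => ⟨e.symm y, by simpa using hy, by simp⟩⟩)⟩

variable {k : Type u} [Field k] {X : Scheme.{u}} (f : X ⟶ Spec (CommRingCat.of k))
  (K : Type u) [Field K] [Algebra k K]

/-- Every local ring of `X_K` over `x` is a localisation of `K ⊗ O_{X,x}`. -/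
theorem exists_prime_of_point {x : X} [Algebra k (X.presheaf.stalk x)]
    (hR : X.fromSpecStalk x ≫ f = str k (X.presheaf.stalk x))
    (w : ↥(pullback f (str k K))) (hw : pullback.fst f (str k K) w = x) :
    ∃ (p : Ideal (K ⊗[k] X.presheaf.stalk x)) (_ : p.IsPrime),
      Nonempty ((pullback f (str k K)).presheaf.stalk w ≃+* Localization.AtPrime p) := by
  obtain ⟨m, hfl, hpre, hm⟩ := exists_stalk_pullback f hR (str k K)
  haveI := hfl
  haveI := hpre
  let R := X.presheaf.stalk x
  obtain ⟨v, rfl⟩ := hm w hw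
  let e := pullbackSpecIso k R K
  let z : PrimeSpectrum (R ⊗[k] K) := e.hom v
  have hz : e.inv z = v := by
    change (e.hom ≫ e.inv) v = v
    rw [Iso.hom_inv_id]
    rfl
  let c : R ⊗[k] K ≃+* K ⊗[k] R := (Algebra.TensorProduct.comm k R K).toRingEquiv
  let p : Ideal (K ⊗[k] R) := z.asIdeal.comap c.symm.toRingHom
  haveI : p.IsPrime := Ideal.IsPrime.comap _
  obtain ⟨e₀⟩ := nonempty_atPrime_equiv c.symm z.asIdeal
  refine ⟨p, inferInstance, ⟨?_⟩⟩
  rw [← hz]
  let t : Spec (CommRingCat.of (R ⊗[k] K)) ⟶ pullback f (str k K) := e.inv ≫ m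
  exact ((RingEquiv.ofBijective (t.stalkMap z).hom (SweepSix.FieldsRed.isIso_stalkMap t z)).trans
    (Spec.stalkIso (CommRingCat.of (R ⊗[k] K)) z).commRingCatIsoToRingEquiv).trans e₀.symm

/-- For an algebraic extension every maximal ideal of `K ⊗ O_{X,x}` gives a point of `X_K` over `x`. -/
theorem exists_point_of_maximal {x : X} [Algebra k (X.presheaf.stalk x)]
    (hR : X.fromSpecStalk x ≫ f = str k (X.presheaf.stalk x)) [Algebra.IsAlgebraic k K]
    (M : Ideal (K ⊗[k] X.presheaf.stalk x)) [M.IsMaximal] :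
    ∃ w : ↥(pullback f (str k K)), pullback.fst f (str k K) w = x ∧
      Nonempty ((pullback f (str k K)).presheaf.stalk w ≃+* Localization.AtPrime M) := by
  haveI := AlgSpLib.flat_fromSpecStalk x
  let R := X.presheaf.stalk x
  let m : pullback (str k R) (str k K) ⟶ pullback f (str k K) :=
    pullback.map _ _ _ _ (X.fromSpecStalk x) (𝟙 _) (𝟙 _) (by simp [R, hR]) (by simp)
  have sq : IsPullback m (pullback.fst (str k R) (str k K)) (pullback.fst f (str k K)) (X.fromSpecStalk x) := by
    refine (IsPullback.of_bot (v₂₁ := pullback.snd f (str k K)) (h₃₁ := str k K) (v₂₂ := f) ?_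
      (pullback.lift_fst _ _ _).symm (IsPullback.of_hasPullback f (str k K))).flip
    rw [show m ≫ pullback.snd f (str k K) = pullback.snd (str k R) (str k K) from
      (pullback.lift_snd _ _ _).trans (Category.comp_id _), hR]
    exact IsPullback.of_hasPullback (str k R) (str k K)
  haveI : Flat m := MorphismProperty.of_isPullback sq.flip ‹_›
  haveI : IsPreimmersion m := MorphismProperty.of_isPullback sq.flip inferInstance
  let e := pullbackSpecIso k R K
  let c : R ⊗[k] K ≃+* K ⊗[k] R := (Algebra.TensorProduct.comm k R K).toRingEquiv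
  let N : Ideal (R ⊗[k] K) := M.comap c.toRingHom
  haveI : N.IsMaximal := Ideal.comap_isMaximal_of_surjective _ c.surjective
  haveI : Algebra.IsIntegral k K := Algebra.IsAlgebraic.isIntegral
  let v : ↥(Spec (CommRingCat.of (R ⊗[k] K))) := (⟨N, inferInstance⟩ : PrimeSpectrum (R ⊗[k] K))
  obtain ⟨e₀⟩ := nonempty_atPrime_equiv c M
  refine ⟨(e.inv ≫ m) v, ?_, ⟨?_⟩⟩
  · rw [← Scheme.Hom.comp_apply, Category.assoc, sq.w, ← Category.assoc, pullbackSpecIso_inv_fst,
      Scheme.Hom.comp_apply]
    refine (congrArg (X.fromSpecStalk x) (?_ : _ = IsLocalRing.closedPoint R)).trans Scheme.fromSpecStalk_closedPoint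
    exact PrimeSpectrum.ext (IsLocalRing.eq_maximalIdeal (Ideal.isMaximal_comap_of_isIntegral_of_isMaximal N))
  · exact ((RingEquiv.ofBijective ((e.inv ≫ m).stalkMap v).hom (SweepSix.FieldsRed.isIso_stalkMap (e.inv ≫ m) v)).trans
      (Spec.stalkIso (CommRingCat.of (R ⊗[k] K)) v).commRingCatIsoToRingEquiv).trans e₀

/-- The prelude's algebra structure on a local ring is the one of the structure morphism. -/
theorem fromSpecStalk_comp_eq_str (X : Scheme.{u}) [X.Over (Spec (CommRingCat.of k))] (x : X) :
    letI := Curv2.stalkAlgebra k X x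
    X.fromSpecStalk x ≫ (X ↘ Spec (CommRingCat.of k)) = str k (X.presheaf.stalk x) :=
  fromSpecStalk_comp_over X x

end

end StalkBcLib
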